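import Mathlib.GroupTheory.PGroup
import Mathlib.Algebra.GroupWithZero.Action.Defs
import Mathlib.Algebra.Group.Action.Faithful
import Mathlib.Tactic
import Cfsg.Agent.S0200

/-!
# Classes of 3-transpositions acting on a module of characteristic 2

`D` is a generating class of 3-transpositions of a group `Q` which acts on `M`, such that the
translates `d [M,d]` of the members are 3-transpositions in the semidirect product. We show that
the commutator spaces of distinct members meet trivially, and that such a class is unique.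
-/

namespace CfsgLib.ThreeTranspModule

variable {Q M : Type*} [Group Q] [AddCommGroup M] [DistribMulAction Q M]

/-- The commutator of `v` with `d`. -/
def br (d : Q) (v : M) : M := v + d • v

/-- `w` lies in the commutator space of `d`. -/
def InW (d : Q) (w : M) : Prop := ∃ v : M, br d v = w

/-- A 3-transposition class compatible with the module. -/
structure Cls (Q M : Type*) [Group Q] [AddCommGroup M] [DistribMulAction Q M] (D : Set Q) : Prop where
  invol : ∀ d ∈ D, d * d = 1
  conj_mem : ∀ g : Q, ∀ d ∈ D, g * d * g⁻¹ ∈ D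
  pair : ∀ d ∈ D, ∀ e ∈ D, Commute d e ∨ (d * e) ^ 3 = 1
  fix : ∀ d ∈ D, ∀ e ∈ D, Commute d e → ∀ v : M, e • br d v = br d v
  fix3 : ∀ d ∈ D, ∀ e ∈ D, ¬ Commute d e → ∀ v : M, (d * e) • v = v → d • v = v
  two : ∀ m : M, m + m = 0
  gen : Subgroup.closure D = ⊤

variable {D : Set Q}

theorem br_add (d : Q) (a b : M) : br d (a + b) = br d a + br d b := by
  simp only [br, smul_add]; abel

theorem smul_br (g d : Q) (v : M) : g • br d v = br (g * d * g⁻¹) (g • v) := by
  simp only [br, smul_add, smul_smul, inv_mul_cancel_right]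

theorem InW.add {d : Q} {a b : M} (ha : InW d a) (hb : InW d b) : InW d (a + b) := by
  obtain ⟨x, rfl⟩ := ha; obtain ⟨y, rfl⟩ := hb
  exact ⟨x + y, br_add d x y⟩

theorem InW.smul {d : Q} {a : M} (g : Q) (ha : InW d a) : InW (g * d * g⁻¹) (g • a) := by
  obtain ⟨x, rfl⟩ := ha
  exact ⟨g • x, (smul_br g d x).symm⟩

section

variable (hD : Cls Q M D)
include hD

theorem sd {d : Q} (hd : d ∈ D) (v : M) : d • d • v = v := by
  rw [smul_smul, hD.invol d hd, one_smul]

theorem inv_eq {d : Q} (hd : d ∈ D) : d⁻¹ = d := inv_eq_of_mul_eq_one_right (hD.invol d hd)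

theorem cancel (a b : M) : a + (a + b) = b := by
  rw [← add_assoc, hD.two, zero_add]

theorem eq_of_add_eq_zero {a b : M} (h : a + b = 0) : a = b := by
  rw [← add_zero a, ← hD.two b, ← add_assoc, h, zero_add]

theorem InW.fixed {d : Q} (hd : d ∈ D) {w : M} (hw : InW d w) : d • w = w := by
  obtain ⟨v, rfl⟩ := hw
  rw [br, smul_add, sd hD hd, add_comm]

theorem br_self {d : Q} (hd : d ∈ D) {w : M} (hw : InW d w) : br d w = 0 := by
  rw [br, InW.fixed hD hd hw, hD.two]

theorem InW.fix_commute {d e : Q} (hd : d ∈ D) (he : e ∈ D) (hc : Commute d e) {w : M}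
    (hw : InW d w) : e • w = w := by
  obtain ⟨v, rfl⟩ := hw
  exact hD.fix d hd e he hc v

theorem cube {d e : Q} (hd : d ∈ D) (he : e ∈ D) (h : ¬ Commute d e) : (d * e) ^ 3 = 1 :=
  (hD.pair d hd e he).resolve_left h

theorem braid {d e : Q} (hd : d ∈ D) (he : e ∈ D) (h : ¬ Commute d e) :
    d * e * d = e * d * e := by
  have h3 := cube hD hd he h
  have h3' : (d * e * d) * (e * d * e) = 1 := by rw [← h3]; simp only [pow_succ, pow_zero, one_mul, mul_assoc]
  rw [← inv_eq_of_mul_eq_one_right h3', mul_inv_rev, mul_inv_rev, inv_eq hD hd, inv_eq hD he,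
    mul_assoc]

theorem mem_conj {g d : Q} (hg : g ∈ D) (hd : d ∈ D) : g * d * g ∈ D := by
  have := hD.conj_mem g d hd
  rwa [inv_eq hD hg] at this

theorem InW.smul' {g d : Q} (hg : g ∈ D) {a : M} (ha : InW d a) : InW (g * d * g) (g • a) := by
  have := ha.smul g
  rwa [inv_eq hD hg] at this

/-- `w + g w + d g w = 0` on the commutator space of `d`, for neighbours `d`, `g`. -/
theorem key {d g : Q} (hd : d ∈ D) (hg : g ∈ D) (h : ¬ Commute d g) {w : M} (hw : InW d w) :
    w + g • w + d • g • w = 0 := by
  obtain ⟨v, rfl⟩ := hw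
  have hb := braid hD hd hg h
  have hx : (d * g) * (d * g) = g * d := by
    calc (d * g) * (d * g) = (d * g * d) * g := by group
      _ = g * d * (g * g) := by rw [hb]; group
      _ = g * d := by rw [hD.invol g hg, mul_one]
  have hfix : (d * g) • (v + (d * g) • v + (g * d) • v) = v + (d * g) • v + (g * d) • v := by
    have hy : (d * g) * (g * d) = 1 := by
      rw [show (d * g) * (g * d) = d * (g * g) * d by group, hD.invol g hg, mul_one, hD.invol d hd]
    rw [smul_add, smul_add, smul_smul, smul_smul, hx, hy, one_smul]; abel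
  have hd' := hD.fix3 d hd g hg h _ hfix
  have e1 : d • (d * g) • v = g • v := by
    rw [← smul_smul, sd hD hd]
  have e2 : d • (g * d) • v = d • g • d • v := by rw [← smul_smul]
  rw [smul_add, smul_add, e1, e2, ← smul_smul, ← smul_smul] at hd'
  have h0 : (v + d • g • v + g • d • v) + (d • v + g • v + d • g • d • v) = 0 := by
    rw [hd', hD.two]
  rw [← h0]
  simp only [br, smul_add]
  abel

/-- The two commutator maps between the spaces of neighbours are inverse to each other. -/
theorem br_br {d g : Q} (hd : d ∈ D) (hg : g ∈ D) (h : ¬ Commute d g) {w : M} (hw : InW d w) :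
    br d (br g w) = w := by
  have k := key hD hd hg h hw
  rw [br, br, smul_add, InW.fixed hD hd hw]
  calc w + g • w + (w + d • g • w) = w + (w + g • w + d • g • w) := by abel
    _ = w := by rw [k, add_zero]

theorem eq_zero_of_fixed {d g : Q} (hd : d ∈ D) (hg : g ∈ D) (h : ¬ Commute d g) {w : M}
    (hw : InW d w) (hf : g • w = w) : w = 0 := by
  rw [← br_br hD hd hg h hw, br.eq_1 g, hf, hD.two, br, smul_zero, add_zero]

theorem commute_of_shared {d e : Q} (hd : d ∈ D) (he : e ∈ D) {w : M} (hw : InW d w)
    (hw' : InW e w) (h0 : w ≠ 0) : Commute d e := by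
  by_contra h
  exact h0 (eq_zero_of_fixed hD hd he h hw (InW.fixed hD he hw'))

theorem tau_of_shared {d e : Q} (hd : d ∈ D) (he : e ∈ D) {w : M} (hw : InW d w)
    (hw' : InW e w) (h0 : w ≠ 0) : ∀ f ∈ D, (Commute d f ↔ Commute e f) := by
  intro f hf
  constructor <;> intro hc <;> by_contra hn
  · exact h0 (eq_zero_of_fixed hD he hf hn hw' (InW.fix_commute hD hd hf hc hw))
  · exact h0 (eq_zero_of_fixed hD hd hf hn hw (InW.fix_commute hD he hf hc hw'))

variable [Finite Q] (hO : ∀ N : Subgroup Q, N.Normal → IsPGroup 2 N → N = ⊥)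
include hO

/-- Distinct members have commutator spaces meeting trivially. -/
theorem eq_of_shared {d e : Q} (hd : d ∈ D) (he : e ∈ D) {w : M} (hw : InW d w)
    (hw' : InW e w) (h0 : w ≠ 0) : d = e := by
  classical
  let R : Q → Q → Prop := fun a b => ∀ f ∈ D, (Commute a f ↔ Commute b f)
  have hRconj : ∀ (g : Q) {a b : Q}, R a b → R (g * a * g⁻¹) (g * b * g⁻¹) := by
    intro g a b hab f hf
    have hf' := hD.conj_mem g⁻¹ f hf
    rw [inv_inv] at hf'
    have := hab _ hf'
    have key' : ∀ c : Q, Commute (g * c * g⁻¹) f ↔ Commute c (g⁻¹ * f * g) := by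
      intro c
      have := SemiconjBy.conj_iff (a := c) (x := g⁻¹ * f * g) (y := g⁻¹ * f * g) (b := g)
      rw [show g * (g⁻¹ * f * g) * g⁻¹ = f by group] at this
      exact this
    rw [key', key']; exact this
  have hcomm := commute_of_shared hD hd he hw hw' h0
  set u := d * e with hu
  have huu : u * u = 1 := by
    rw [hu, hcomm.symm.mul_mul_mul_comm, hD.invol d hd, hD.invol e he, one_mul]
  have huinv : u⁻¹ = u := inv_eq_of_mul_eq_one_right huu
  have hclass : ∀ f ∈ D, R f (u * f * u) := by
    intro f hf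
    by_cases hc : Commute d f
    · have hc' := (tau_of_shared hD hd he hw hw' h0 f hf).1 hc
      have : u * f * u = f := by
        rw [(hc.mul_left hc').eq, mul_assoc, huu, mul_one]
      rw [this]; exact fun _ _ => Iff.rfl
    · have hc' : ¬ Commute e f := fun h => hc ((tau_of_shared hD hd he hw hw' h0 f hf).2 h)
      have h1 := InW.smul' hD hf hw
      have h2 := InW.smul' hD hf hw'
      rw [← braid hD hd hf hc] at h1
      rw [← braid hD he hf hc'] at h2
      have hne : f • w ≠ 0 := fun h => h0 (by rw [← sd hD hf w, h, smul_zero])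
      have := hRconj d (tau_of_shared hD (mem_conj hD hd hf) (mem_conj hD he hf) h1 h2 hne)
      rw [inv_eq hD hd] at this
      rwa [show d * (d * f * d) * d = (d * d) * f * (d * d) by group, hD.invol d hd, one_mul,
        mul_one, show d * (e * f * e) * d = (d * e) * f * (e * d) by group, ← hcomm.eq, ← hu] at this
  have hfour : ∀ g : Q, (u * (g * u * g⁻¹)) ^ 4 = 1 := by
    intro g
    have hf := hD.conj_mem g d hd
    have hf' := hD.conj_mem g e he
    set f := g * d * g⁻¹ with hfd
    set f' := g * e * g⁻¹ with hfe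
    have hu' : g * u * g⁻¹ = f * f' := by rw [hu, hfd, hfe]; group
    have hff' : R f f' := hRconj g (tau_of_shared hD hd he hw hw' h0)
    set a := u * f * u with ha
    set b := u * f' * u with hb
    have haD : a ∈ D := by have := hD.conj_mem u f hf; rwa [huinv] at this
    have hbD : b ∈ D := by have := hD.conj_mem u f' hf'; rwa [huinv] at this
    have hfa : R f a := hclass f hf
    have hfb : R f b := fun x hx => (hff' x hx).trans (hclass f' hf' x hx)
    have hRc : ∀ {x y : Q}, y ∈ D → R f x → R f y → Commute x y := fun {x y} hy hx hy' =>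
      ((hx y hy).symm.trans (hy' y hy)).2 (Commute.refl y)
    have hrefl : R f f := fun _ _ => Iff.rfl
    have cab : Commute a b := hRc hbD hfa hfb
    have cff : Commute f f' := hRc hf' hrefl hff'
    have c1 : Commute (a * b) (f * f') :=
      ((hRc hf hfa hrefl).mul_right (hRc hf' hfa hff')).mul_left
        ((hRc hf hfb hrefl).mul_right (hRc hf' hfb hff'))
    have hsq : (u * (g * u * g⁻¹)) ^ 2 = (a * b) * (f * f') := by
      rw [hu', sq, ha, hb, show u * f * u * (u * f' * u) * (f * f')
        = u * f * (u * u) * f' * u * (f * f') by group, huu]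
      group
    rw [show (4 : ℕ) = 2 * 2 from rfl, pow_mul, hsq, c1.mul_pow, cab.mul_pow, cff.mul_pow, sq, sq,
      sq, sq, hD.invol a haD, hD.invol b hbD, hD.invol f hf, hD.invol f' hf']
    simp
  by_contra hne
  have hu1 : u ≠ 1 := fun h => hne (by rw [← inv_eq hD he]; exact eq_inv_of_mul_eq_one_left h)
  have hord : orderOf u = 2 := orderOf_eq_prime (by rw [sq, huu]) hu1
  obtain ⟨h, hh1, hodd, hinv⟩ := Cfsg.Agent.S0200.result u hord (fun N hN hp hmem =>
    hu1 (by simpa [hO N hN hp] using hmem))
  have hp : (h ^ 2)⁻¹ = u * (h * u * h⁻¹) := by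
    rw [huinv] at hinv
    rw [show u * (h * u * h⁻¹) = (u * h * u) * h⁻¹ by group, hinv]
    group
  have h8 : h ^ 8 = 1 := by
    have := hfour h
    rw [← hp, inv_pow, inv_eq_one, ← pow_mul] at this
    exact this
  apply hh1
  rw [← orderOf_eq_one_iff]
  obtain ⟨j, hj, hj'⟩ := (Nat.dvd_prime_pow Nat.prime_two).1
    (show orderOf h ∣ 2 ^ 3 from orderOf_dvd_of_pow_eq_one h8)
  rcases Nat.eq_zero_or_pos j with rfl | hjpos
  · simpa using hj'
  · exact absurd hodd (by rw [hj', Nat.not_odd_iff_even, Nat.even_pow]; exact ⟨even_two, by omega⟩)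

/-- The commutator space of `d` meets the sum of those of neighbours `g`, `k` only if `d` is one of
the three members on their line. -/
theorem line {d g k : Q} (hd : d ∈ D) (hg : g ∈ D) (hk : k ∈ D) (hgk : ¬ Commute g k) {p q : M}
    (hp : InW g p) (hq : InW k q) (hw : InW d (p + q)) (h0 : p + q ≠ 0) :
    d = g ∨ d = k ∨ d = k * g * k := by
  have comm_case : ∀ {g k : Q} {p q : M}, g ∈ D → k ∈ D → ¬ Commute g k → InW g p → InW k q →
      InW d (p + q) → p + q ≠ 0 → Commute d k → d = k := by
    intro g k p q hg hk hgk hp hq hw h0 hc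
    have h1 := InW.fix_commute hD hd hk hc hw
    rw [smul_add, InW.fixed hD hk hq] at h1
    have hp0 := eq_zero_of_fixed hD hg hk hgk hp (add_right_cancel h1)
    rw [hp0, zero_add] at hw h0
    exact eq_of_shared hD hO hd hk hw hq h0
  by_cases hck : Commute d k
  · exact Or.inr (Or.inl (comm_case hg hk hgk hp hq hw h0 hck))
  by_cases hcg : Commute d g
  · refine Or.inl (comm_case hk hg (fun h => hgk h.symm) hq hp ?_ ?_ hcg) <;> rw [add_comm] <;>
      assumption
  set k' := k * g * k with hk'
  have hk'D : k' ∈ D := mem_conj hD hk hg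
  by_cases hck' : Commute d k'
  · refine Or.inr (Or.inr ?_)
    have hk'k : ¬ Commute k k' := by
      intro h
      apply hgk
      show g * k = k * g
      calc g * k = (k * k) * (g * k) := by rw [hD.invol k hk, one_mul]
        _ = k * (k * g * k) := by group
        _ = k * g * k * k := h.eq
        _ = k * g := by rw [mul_assoc, hD.invol k hk, mul_one]
    refine comm_case (p := br k p + q) (q := k • p) hk hk'D hk'k (InW.add ⟨p, rfl⟩ hq)
      (InW.smul' hD hk hp) ?_ ?_ hck' <;>
    · rw [show br k p + q + k • p = p + q + (k • p + k • p) by rw [br]; abel, hD.two, add_zero]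
      assumption
  exfalso
  have hngd : ¬ Commute g d := fun h => hcg h.symm
  have hnkd : ¬ Commute k d := fun h => hck h.symm
  set a := br d p with ha
  have hwa : br d q = a := by
    refine (eq_of_add_eq_zero hD ?_).symm
    rw [ha, ← br_add, br_self hD hd hw]
  have hpe : br g a = p := by rw [ha, br_br hD hg hd hngd hp]
  have hqe : br k a = q := by rw [← hwa, br_br hD hk hd hnkd hq]
  have hgw : br g (p + q) = br g q := by rw [br_add, br_self hD hg hp, zero_add]
  have hkw : br k (p + q) = br k p := by rw [br_add, br_self hD hk hq, add_zero]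
  have hα1 : br d (br g (br k a)) = p + q := by
    rw [hqe, ← hgw, br_br hD hd hg hcg hw]
  have hα2 : br d (br g (br k (p + q))) = a := by
    rw [hkw, br_br hD hg hk hgk hp]
  have hY : ∀ y : M, InW d y → br d (br g (br k y)) = y → y = 0 := by
    intro y hy hfix
    set p' := br g y with hp'
    set q' := br k y with hq'
    have hgq : br g q' = p' := by
      rw [← br_br hD hg hd hngd (w := br g q') ⟨q', rfl⟩, hfix, hp']
    have hkp : br k p' = q' := by
      rw [← hgq, br_br hD hk hg (fun h => hgk h.symm) ⟨y, rfl⟩]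
    have hz : InW k' (k • p') := InW.smul' hD hk ⟨y, rfl⟩
    have hdz : br d (k • p') = 0 := by
      have : k • p' = p' + q' := by rw [← hkp, br, cancel hD]
      rw [this, br_add, hp', hq', br_br hD hd hg hcg hy, br_br hD hd hk hck hy, hD.two]
    have hz0 : k • p' = 0 :=
      eq_zero_of_fixed hD hk'D hd (fun h => hck' h.symm) hz
        (eq_of_add_eq_zero hD (by rw [add_comm]; exact hdz))
    have hp0 : p' = 0 := by rw [← sd hD hk p', hz0, smul_zero]
    rw [← br_br hD hd hg hcg hy, ← hp', hp0, br, smul_zero, add_zero]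
  have hy : a + (p + q) = 0 := by
    refine hY _ (InW.add ⟨p, rfl⟩ hw) ?_
    rw [br_add, br_add, br_add, hα1, hα2, add_comm]
  have haw := eq_of_add_eq_zero hD hy
  have := hY a ⟨p, rfl⟩ (by rw [hα1, ← haw])
  exact h0 (haw ▸ this)

omit hD in
/-- An involution commuting with all of `D` is trivial. -/
theorem eq_one_of_central (hgen : Subgroup.closure D = ⊤) {z : Q} (hz : z * z = 1)
    (hc : ∀ g ∈ D, Commute z g) : z = 1 := by
  have hcen : z ∈ Subgroup.center Q := by
    rw [Subgroup.mem_center_iff]
    intro g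
    have : Subgroup.closure D ≤ Subgroup.centralizer {z} := (Subgroup.closure_le _).2 fun x hx => by
      rw [SetLike.mem_coe, Subgroup.mem_centralizer_singleton_iff]
      exact (hc x hx).eq.symm
    rw [hgen] at this
    exact Subgroup.mem_centralizer_singleton_iff.1 (this (Subgroup.mem_top g))
  have hle : Subgroup.zpowers z ≤ Subgroup.center Q := Subgroup.zpowers_le.2 hcen
  have hN : (Subgroup.zpowers z).Normal := ⟨fun n hn g => by
    rw [(Subgroup.mem_center_iff.1 (hle hn) g), mul_inv_cancel_right]; exact hn⟩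
  have hP : IsPGroup 2 (Subgroup.zpowers z) := by
    rintro ⟨x, hx⟩
    obtain ⟨n, rfl⟩ := Subgroup.mem_zpowers_iff.1 hx
    refine ⟨1, Subtype.ext ?_⟩
    show (z ^ n) ^ (2 ^ 1) = 1
    rw [pow_one, sq, ← (Commute.refl z).mul_zpow, hz, one_zpow]
  have := hO _ hN hP
  rwa [Subgroup.zpowers_eq_bot] at this

variable [FaithfulSMul Q M]

omit hD hO [Finite Q] in
theorem exists_ne_zero {e : Q} (he : e ≠ 1) (h2 : ∀ m : M, m + m = 0) :
    ∃ w : M, InW e w ∧ w ≠ 0 := by
  by_contra! h
  refine he (FaithfulSMul.eq_of_smul_eq_smul (α := M) fun v => ?_)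
  rw [one_smul]
  have : br e v = 0 := h _ ⟨v, rfl⟩
  rw [br] at this
  calc e • v = v + (v + e • v) := by rw [← add_assoc, h2, zero_add]
    _ = v := by rw [this, add_zero]

/-- **Uniqueness of the class in the acting group.** -/
theorem mem_of_cls {E : Set Q} (hE : Cls Q M E) (hE1 : (1 : Q) ∉ E) {e : Q} (he : e ∈ E) :
    e ∈ D := by
  have he1 : e ≠ 1 := fun h => hE1 (h ▸ he)
  have hei := inv_eq hE he
  have hee := hE.invol e he
  obtain ⟨y0, hy0, hy00⟩ := exists_ne_zero (M := M) he1 hD.two
  -- a member moved by `e`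
  have step : ∀ g ∈ D, ¬ Commute e g →
      ¬ Commute g (e * g * e) ∧ g * (e * g * e) * g ∈ D ∧ Commute e (g * (e * g * e) * g) ∧
      (g * (e * g * e) * g) * g * (g * (e * g * e) * g) = e * g * e ∧
      ∀ y : M, InW e y → ∃ p q : M, InW g p ∧ InW (g * (e * g * e) * g) q ∧ p + q = y := by
    intro g hg hcg
    set g' := e * g * e with hg'
    have hg'D : g' ∈ D := by have := hD.conj_mem e g hg; rwa [hei] at this
    have hgg := hD.invol g hg
    have heg : e * g = g' * e := by rw [hg', mul_assoc, hee, mul_one]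
    set e' := g * e * g with he'
    have he'E : e' ∈ E := by have := hE.conj_mem g e he; rwa [inv_eq hD hg] at this
    have hee' : e * e' = g' * g := by rw [he', hg']; group
    have he'e : e' * e = g * g' := by rw [he', hg']; group
    have hne : g' ≠ g := by
      intro h; apply hcg; show e * g = g * e; rw [heg, h]
    have hnb : ¬ Commute g g' := by
      intro hc
      have hce : Commute e e' := by show e * e' = e' * e; rw [hee', he'e, hc.eq]
      -- `e'` then equals `e`
      obtain ⟨w, hw, hw0⟩ := exists_ne_zero (M := M) (e := g)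
        (fun h => hcg (h ▸ Commute.one_right e)) hD.two
      have hew : InW g' (e • w) := by have := hw.smul e; rwa [hei] at this
      have hy : g • (w + e • w) = w + e • w := by
        rw [smul_add, InW.fixed hD hg hw, InW.fix_commute hD hg'D hg hc.symm hew]
      have hy0 : w + e • w ≠ 0 := by
        intro h
        have hwe := eq_of_add_eq_zero hD h
        exact hne (eq_of_shared hD hO hg'D hg hew (hwe ▸ hw) (hwe ▸ hw0))
      have h1 : InW e (w + e • w) := ⟨w, rfl⟩
      have h2 : InW e' (g • (w + e • w)) := by have := h1.smul g; rwa [inv_eq hD hg] at this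
      rw [hy] at h2
      have he'eq := eq_of_shared hE hO he he'E h1 h2 hy0
      apply hcg
      show e * g = g * e
      calc e * g = g * e * g * g := by rw [← he', ← he'eq]
        _ = g * e := by rw [mul_assoc _ g g, hgg, mul_one]
    have hnbE : ¬ Commute e e' := by
      intro h; apply hnb; show g * g' = g' * g; rw [← he'e, ← hee', h.eq]
    set k := g * g' * g with hk
    have hkD : k ∈ D := mem_conj hD hg hg'D
    have hb : g * g' * g = g' * g * g' := braid hD hg hg'D hnb
    have hke : Commute e k := by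
      show e * k = k * e
      calc e * k = (e * g) * g' * g := by rw [hk]; group
        _ = g' * (e * g') * g := by rw [heg]; group
        _ = g' * g * (e * g) := by rw [hg', show e * (e * g * e) = (e * e) * (g * e) by group, hee]; group
        _ = k * e := by rw [heg, hk, hb]; group
    have hkgk : k * g * k = g' := by
      calc k * g * k = g * g' * (g * g) * (g * g' * g) := by rw [hk]; group
        _ = g * g' * g * g' * g := by rw [hgg]; group
        _ = g' * g * (g' * g') * g := by rw [hb]; group
        _ = g' := by rw [hD.invol g' hg'D, mul_one, mul_assoc, hgg, mul_one]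
    refine ⟨hnb, hkD, hke, hkgk, fun y hy => ?_⟩
    have hey := InW.fixed hE he hy
    have hk3 := key hE he he'E hnbE hy
    rw [smul_smul, hee'] at hk3
    have he'y : e' • y = (g * g') • y := by
      rw [← he'e, mul_smul e' e y, hey]
    rw [he'y] at hk3
    refine ⟨br g (g' • y), g' • br g y, ⟨_, rfl⟩, ?_, ?_⟩
    · have := InW.smul' hD hg'D (⟨y, rfl⟩ : InW g (br g y))
      rwa [← hb] at this
    · rw [br, br, smul_add, smul_smul g g', smul_smul g' g]
      rw [add_assoc] at hk3
      rw [add_add_add_comm, hD.two, zero_add]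
      exact (eq_of_add_eq_zero hD hk3).symm
  by_cases hall : ∀ g ∈ D, Commute e g
  · exact absurd (eq_one_of_central hO hD.gen hee hall) he1
  push Not at hall
  obtain ⟨g0, hg0, hcg0⟩ := hall
  obtain ⟨hnb0, hkD, hke, hkgk, hdec0⟩ := step g0 hg0 hcg0
  set k := g0 * (e * g0 * e) * g0 with hk
  have hgk0 : ¬ Commute g0 k := by
    intro h
    apply hnb0
    have : k * g0 * k = g0 := by rw [← h.eq, mul_assoc, hD.invol k hkD, mul_one]
    rw [← hkgk, this]
  -- a common nonzero vector
  obtain ⟨w, hwe, hwk, hw0⟩ : ∃ w : M, InW e w ∧ InW k w ∧ w ≠ 0 := by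
    obtain ⟨p, q, hp, hq, hpq⟩ := hdec0 y0 hy0
    by_cases hf : k • y0 = y0
    · rw [← hpq, smul_add, InW.fixed hD hkD hq] at hf
      have hp0 := eq_zero_of_fixed hD hg0 hkD hgk0 hp (add_right_cancel hf)
      rw [hp0, zero_add] at hpq
      exact ⟨y0, hy0, hpq ▸ hq, hy00⟩
    · refine ⟨br k y0, ?_, ⟨y0, rfl⟩, fun h => hf (eq_of_add_eq_zero hD h).symm⟩
      have := hy0.smul k
      rw [← hke.eq, mul_inv_cancel_right] at this
      exact InW.add hy0 this
  have honly : ∀ d ∈ D, Commute e d → (∃ w : M, InW e w ∧ InW d w ∧ w ≠ 0) → d = k := by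
    rintro d hd hcd ⟨v, hve, hvd, hv0⟩
    obtain ⟨p, q, hp, hq, hpq⟩ := hdec0 v hve
    subst hpq
    rcases line hD hO hd hg0 hkD hgk0 hp hq hvd hv0 with h | h | h
    · exact absurd (h ▸ hcd) hcg0
    · exact h
    · exfalso
      rw [h, hkgk] at hcd
      apply hcg0
      have e1 := hcd.eq
      show e * g0 = g0 * e
      rw [show e * (e * g0 * e) = (e * e) * (g0 * e) by group, hee, one_mul,
        mul_assoc (e * g0), hee, mul_one] at e1
      exact e1.symm
  have hz : k * e = 1 := by
    apply eq_one_of_central hO hD.gen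
    · rw [hke.mul_mul_mul_comm, hD.invol k hkD, hee, one_mul]
    intro g hg
    by_cases hc : Commute e g
    · refine Commute.mul_left ?_ hc
      by_contra hn
      have hgw : InW e (g • w) := by
        have := hwe.smul g
        rwa [← hc.eq, mul_inv_cancel_right] at this
      have hne : br g w ≠ 0 := fun h => hw0 (by
        rw [← br_br hD hkD hg hn hwk, h, br, smul_zero, add_zero])
      have := honly g hg hc ⟨_, InW.add hwe hgw, ⟨w, rfl⟩, hne⟩
      exact hn (this ▸ Commute.refl _)
    · obtain ⟨hnb', hk'D, hk'e, hk'gk, hdec⟩ := step g hg hc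
      obtain ⟨p, q, hp, hq, hpq⟩ := hdec w hwe
      set k' := g * (e * g * e) * g with hk'
      have hgk' : ¬ Commute g k' := by
        intro h
        apply hnb'
        have : k' * g * k' = g := by rw [← h.eq, mul_assoc, hD.invol k' hk'D, mul_one]
        rw [← hk'gk, this]
      have hkk : k = k' := by
        subst hpq
        rcases line hD hO hkD hg hk'D hgk' hp hq hwk hw0 with h | h | h
        · exact absurd (h ▸ hke) hc
        · exact h
        · exfalso
          rw [hk'gk] at h
          apply hc
          have e1 := (h ▸ hke : Commute e (e * g * e)).eq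
          show e * g = g * e
          rw [show e * (e * g * e) = (e * e) * (g * e) by group, hee, one_mul,
            mul_assoc (e * g), hee, mul_one] at e1
          exact e1.symm
      rw [← hkk] at hk'gk
      show k * e * g = g * (k * e)
      have h1 : e * g = k * g * k * e := by rw [hk'gk, mul_assoc, hee, mul_one]
      rw [mul_assoc, h1, show k * (k * g * k * e) = (k * k) * (g * (k * e)) by group,
        hD.invol k hkD, one_mul]
  have hkeq : k = e := by
    rw [eq_inv_of_mul_eq_one_left hz, hei]
  exact hkeq ▸ hkD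

/-- The translations carrying the class to a second one come from an invariant vector. -/
theorem exists_invariant (hD1 : (1 : Q) ∉ D) (val : Q → M → Prop) (hex : ∀ d ∈ D, ∃ v, val d v)
    (hA : ∀ d ∈ D, ∀ g ∈ D, Commute d g → ∀ v, val d v → g • v = v)
    (hB : ∀ d ∈ D, ∀ g ∈ D, ¬ Commute d g → ∀ v u, val d v → val g u →
      (g • v + u) + (d * g) • (g • v + u) + (g * d) • (g • v + u) = 0)
    {d : Q} (hd : d ∈ D) {v : M} (hv : val d v) :
    ∃ n : M, (∀ f ∈ D, f • n = n) ∧ InW d (n + v) := by
  have pairn : ∀ d ∈ D, ∀ g ∈ D, ¬ Commute d g → ∀ v u, val d v → val g u →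
      ∃ n : M, d • n = n ∧ g • n = n ∧ InW d (n + v) ∧ InW g (n + u) := by
    intro d hd g hg hn v u hv hu
    have hdv := hA d hd d hd (Commute.refl d) v hv
    have hgu := hA g hg g hg (Commute.refl g) u hu
    have hb := braid hD hd hg hn
    have hgdg : ∀ x : M, g • d • g • x = d • g • d • x := fun x => by
      rw [smul_smul, smul_smul, smul_smul, smul_smul, hb]
    refine ⟨v + g • v + d • g • v, ?_, ?_, ⟨g • v, ?_⟩, ⟨d • u, ?_⟩⟩
    · rw [smul_add, smul_add, sd hD hd, hdv]; abel
    · rw [smul_add, smul_add, sd hD hg, hgdg, hdv]; abel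
    · rw [br]
      calc g • v + d • g • v = (v + v) + (g • v + d • g • v) := by rw [hD.two, zero_add]
        _ = v + g • v + d • g • v + v := by abel
    · have h0 := hB d hd g hg hn v u hv hu
      simp only [smul_add, mul_smul, sd hD hg, hgu, hgdg, hdv] at h0
      rw [br]
      refine eq_of_add_eq_zero hD ?_
      rw [← h0]
      abel
  have hd1 : d ≠ 1 := fun h => hD1 (h ▸ hd)
  obtain ⟨g, hg, hdg⟩ : ∃ g ∈ D, ¬ Commute d g := by
    by_contra! h
    exact hd1 (eq_one_of_central hO hD.gen (hD.invol d hd) h)
  obtain ⟨u, hu⟩ := hex g hg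
  obtain ⟨n, hnd, hng, hnv, hnu⟩ := pairn d hd g hg hdg v u hv hu
  refine ⟨n, fun f hf => ?_, hnv⟩
  by_cases hdf : Commute d f
  · have h1 := hA d hd f hf hdf v hv
    have h2 := InW.fix_commute hD hd hf hdf hnv
    rw [smul_add, h1] at h2
    exact add_right_cancel h2
  obtain ⟨u', hu'⟩ := hex f hf
  obtain ⟨n', hnd', hnf', hnv', hnu'⟩ := pairn d hd f hf hdf v u' hv hu'
  suffices hk0 : n + n' = 0 by
    rw [eq_of_add_eq_zero hD hk0]; exact hnf'
  have hkW : InW d (n + n') := by
    have := InW.add hnv hnv'
    rwa [show n + v + (n' + v) = n + n' + (v + v) by abel, hD.two, add_zero] at this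
  have fin : f • n = n → n + n' = 0 := fun h =>
    eq_zero_of_fixed hD hd hf hdf hkW (by rw [smul_add, h, hnf'])
  by_cases hgf : Commute g f
  · have h1 := hA g hg f hf hgf u hu
    have h2 := InW.fix_commute hD hg hf hgf hnu
    rw [smul_add, h1] at h2
    exact fin (add_right_cancel h2)
  obtain ⟨n'', -, -, hnu2, hnu2'⟩ := pairn g hg f hf hgf u u' hu hu'
  by_contra hk
  have hsplit : (n + u + (n'' + u)) + (n' + u' + (n'' + u')) = n + n' := by
    calc _ = n + n' + ((u + u) + (u' + u') + (n'' + n'')) := by abel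
      _ = _ := by rw [hD.two u, hD.two u', hD.two n'']; abel
  rcases line hD hO hd hg hf hgf (InW.add hnu hnu2) (InW.add hnu' hnu2') (hsplit.symm ▸ hkW)
    (hsplit.symm ▸ hk) with h | h | h
  · exact hdg (h ▸ Commute.refl _)
  · exact hdf (h ▸ Commute.refl _)
  · refine hk (fin ?_)
    have hb := braid hD hg hf hgf
    have hfe : g * d * g = f := by
      rw [h, ← hb, show g * (g * f * g) * g = (g * g) * f * (g * g) by group, hD.invol g hg,
        one_mul, mul_one]
    rw [← hfe, mul_smul, mul_smul, hng, hnd, hng]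

end

end CfsgLib.ThreeTranspModule
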